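import Mathlib

set_option autoImplicit false
namespace Cfsg.Agent.H876.Gs

/-- every vector an eigenvector modulo a submodule: scalar modulo the submodule -/
theorem scalar_mod {F V : Type*} [Field F] [AddCommGroup V] [Module F V] (T : V →ₗ[F] V) (U : Submodule F V)
    (h : ∀ w, w ∉ U → ∃ c : F, T w - c • w ∈ U) (hU : ∀ u ∈ U, T u ∈ U) : ∃ μ : F, ∀ w, T w - μ • w ∈ U := by
  classical
  by_cases hne : ∀ w, w ∈ U
  · exact ⟨0, fun w => hne _⟩
  push Not at hne
  obtain ⟨w0, hw0⟩ := hne
  obtain ⟨μ, hμ⟩ := h w0 hw0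
  refine ⟨μ, fun w => ?_⟩
  by_cases hw : w ∈ U
  · exact U.sub_mem (hU w hw) (U.smul_mem _ hw)
  obtain ⟨c, hc⟩ := h w hw
  -- compare
  by_cases hs : w + w0 ∈ U
  · have h1 : T (w + w0) ∈ U := hU _ hs
    have h2 : T w - μ • w = T (w + w0) - (T w0 - μ • w0) - μ • (w + w0) := by
      rw [map_add, smul_add]; abel
    rw [h2]
    exact U.sub_mem (U.sub_mem h1 hμ) (U.smul_mem _ hs)
  obtain ⟨b, hb⟩ := h _ hs
  -- T w + T w0 - b w - b w0 ∈ U, so (c - b) w + (μ - b) w0 ∈ U
  have h3 : (c - b) • w + (μ - b) • w0 ∈ U := by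
    have : (c - b) • w + (μ - b) • w0 = (T (w + w0) - b • (w + w0)) - (T w - c • w) - (T w0 - μ • w0) := by
      rw [map_add, smul_add, sub_smul, sub_smul]; abel
    rw [this]
    exact U.sub_mem (U.sub_mem hb hc) hμ
  by_cases hcμ : c = μ
  · rw [← hcμ]; exact hc
  · -- w ∈ U + F w0 or so
    by_cases hcb : c = b
    · exfalso
      rw [hcb, sub_self, zero_smul, zero_add] at h3
      have hμb : μ - b ≠ 0 := fun h => hcμ (by rw [hcb, sub_eq_zero.1 h])
      exact hw0 ((U.smul_mem_iff hμb).1 h3)
    · have hcb' : c - b ≠ 0 := sub_ne_zero.2 hcb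
      -- w = u + t w0 with u ∈ U
      set t : F := -((μ - b) / (c - b)) with ht
      have h4 : w - t • w0 ∈ U := by
        have : w - t • w0 = (c - b)⁻¹ • ((c - b) • w + (μ - b) • w0) := by
          rw [smul_add, smul_smul, smul_smul, inv_mul_cancel₀ hcb', one_smul, ht, neg_smul, sub_neg_eq_add,
            div_eq_inv_mul]
        rw [this]
        exact U.smul_mem _ h3
      have h5 : T w - μ • w = T (w - t • w0) - μ • (w - t • w0) + t • (T w0 - μ • w0) := by
        rw [map_sub, map_smul, smul_sub, smul_sub, smul_smul, smul_smul, mul_comm t μ]; abel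
      rw [h5]
      exact U.add_mem (U.sub_mem (hU _ h4) (U.smul_mem _ h4)) (U.smul_mem _ hμ)

theorem exists_four {F V : Type*} [Field F] [AddCommGroup V] [Module F V] (hd : 2 < Module.finrank F V)
    (T : V →ₗ[F] V) (α β : F)
    (hT : ∀ v, T (T v) = α • T v + β • v) (hns : ∀ μ : F, ∃ v, T v ≠ μ • v)
    (hν : ∀ μ : F, ∀ e : V, ∃ v, ¬ ∃ c : F, T v - μ • v = c • e) :
    ∃ v w, LinearIndependent F ![v, T v, w, T w] := by
  classical
  -- v with v, T v independent
  obtain ⟨v, hv⟩ : ∃ v, LinearIndependent F ![v, T v] := by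
    by_contra hno
    push Not at hno
    obtain ⟨μ, hμ⟩ := scalar_mod T ⊥ (fun w hw => by
      have h1 := hno w
      rw [LinearIndependent.pair_iff' (by simpa using hw)] at h1
      push Not at h1
      obtain ⟨c, hc⟩ := h1
      exact ⟨c, by rw [hc, sub_self]; exact Submodule.zero_mem _⟩) (by
        intro u hu
        rw [(Submodule.mem_bot F).1 hu, map_zero]; exact Submodule.zero_mem _)
    obtain ⟨u, hu⟩ := hns μ
    exact hu (sub_eq_zero.1 ((Submodule.mem_bot F).1 (hμ u)))
  refine ⟨v, ?_⟩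
  by_contra hno
  push Not at hno
  set U : Submodule F V := Submodule.span F (Set.range ![v, T v]) with hUdef
  have hvU : v ∈ U := Submodule.subset_span ⟨0, rfl⟩
  have hTvU : T v ∈ U := Submodule.subset_span ⟨1, rfl⟩
  have hUpair : ∀ u ∈ U, ∃ a b : F, u = a • v + b • T v := by
    intro u hu
    rw [hUdef] at hu
    have : Set.range ![v, T v] = {v, T v} := by
      simp [Set.pair_comm]
    rw [this, Submodule.mem_span_pair] at hu
    obtain ⟨a, b, h⟩ := hu
    exact ⟨a, b, h.symm⟩
  have hUT : ∀ u ∈ U, T u ∈ U := by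
    intro u hu
    obtain ⟨a, b, rfl⟩ := hUpair u hu
    rw [map_add, map_smul, map_smul, hT]
    exact U.add_mem (U.smul_mem _ hTvU) (U.smul_mem _ (U.add_mem (U.smul_mem _ hTvU) (U.smul_mem _ hvU)))
  obtain ⟨μ, hμ⟩ := scalar_mod T U (fun w hw => by
    have h1 := hno w
    by_contra hc
    push Not at hc
    apply h1
    -- v, Tv, w, Tw independent
    rw [show (![v, T v, w, T w] : Fin 4 → V) = Fin.snoc (Fin.snoc ![v, T v] w : Fin 3 → V) (T w) from by
      ext i; fin_cases i <;> rfl]
    rw [linearIndependent_finSnoc, linearIndependent_finSnoc]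
    refine ⟨⟨hv, hw⟩, ?_⟩
    intro hmem
    have hr : Set.range (Fin.snoc ![v, T v] w : Fin 3 → V) = insert w (Set.range ![v, T v]) := by
      ext x
      constructor
      · rintro ⟨i, rfl⟩
        fin_cases i
        · exact Or.inr ⟨0, rfl⟩
        · exact Or.inr ⟨1, rfl⟩
        · exact Or.inl rfl
      · rintro (rfl | ⟨i, rfl⟩)
        · exact ⟨2, rfl⟩
        · fin_cases i
          · exact ⟨0, rfl⟩
          · exact ⟨1, rfl⟩
    rw [hr, Submodule.mem_span_insert] at hmem
    obtain ⟨c, z, hz, hz2⟩ := hmem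
    refine hc c ?_
    rw [hz2, add_sub_cancel_left]
    exact hz) hUT
  -- μ is a root
  obtain ⟨w0, hw0⟩ : ∃ w0, w0 ∉ U := by
    by_contra hall
    push Not at hall
    have hU : U = ⊤ := by ext x; simp [hall x]
    have h1 : Module.finrank F U = 2 := by
      rw [hUdef, finrank_span_eq_card hv]; rfl
    rw [hU, finrank_top] at h1
    omega
  have hpoly : μ ^ 2 - α * μ - β = 0 := by
    by_contra hne
    apply hw0
    -- T² w0 - μ² w0 ∈ U
    have e1 : T w0 - μ • w0 ∈ U := hμ w0
    have e2 : T (T w0 - μ • w0) ∈ U := hUT _ e1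
    have e3 : (μ ^ 2 - α * μ - β) • w0 = (α - μ) • (T w0 - μ • w0) - T (T w0 - μ • w0) := by
      rw [map_sub, map_smul, hT]
      module
    have e4 : (μ ^ 2 - α * μ - β) • w0 ∈ U := by
      rw [e3]; exact U.sub_mem (U.smul_mem _ e1) e2
    exact (U.smul_mem_iff hne).1 e4
  have hker : ∀ w, T (T w - μ • w) = (α - μ) • (T w - μ • w) := by
    intro w
    rw [map_sub, map_smul, hT]
    have : β = μ ^ 2 - α * μ := by linear_combination -hpoly
    rw [this]
    module
  -- the eigenvectors in U are one-dimensional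
  have hone : ∃ e, ∀ w, ∃ c : F, T w - μ • w = c • e := by
    by_cases hz : ∀ w, T w - μ • w = 0
    · exact ⟨0, fun w => ⟨0, by rw [hz w, smul_zero]⟩⟩
    push Not at hz
    obtain ⟨w1, hw1⟩ := hz
    set e := T w1 - μ • w1 with he
    refine ⟨e, fun w => ?_⟩
    by_contra hc
    push Not at hc
    set f := T w - μ • w with hf
    have hef : LinearIndependent F ![e, f] := by
      rw [LinearIndependent.pair_iff' hw1]
      intro a ha
      exact hc a ha.symm
    have heU : e ∈ U := hμ w1
    have hfU : f ∈ U := hμ w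
    haveI : FiniteDimensional F U := by
      rw [hUdef]; exact FiniteDimensional.span_of_finite F (Set.finite_range _)
    have hspan : Submodule.span F (Set.range ![e, f]) = U := by
      apply Submodule.eq_of_le_of_finrank_eq
      · rw [Submodule.span_le]
        rintro _ ⟨i, rfl⟩
        fin_cases i
        · exact heU
        · exact hfU
      · rw [finrank_span_eq_card hef, hUdef, finrank_span_eq_card hv]
    have hvs : v ∈ Submodule.span F (Set.range ![e, f]) := by rw [hspan]; exact hvU
    have : Set.range ![e, f] = {e, f} := by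
      simp [Set.pair_comm]
    rw [this, Submodule.mem_span_pair] at hvs
    obtain ⟨a, b, hab⟩ := hvs
    have hTv : T v = (α - μ) • v := by
      rw [← hab, map_add, map_smul, map_smul, he, hf, hker, hker, smul_add, smul_comm a, smul_comm b]
    rw [LinearIndependent.pair_iff] at hv
    have := hv (α - μ) (-1) (by rw [hTv]; module)
    exact one_ne_zero (neg_eq_zero.1 this.2)
  obtain ⟨e, he⟩ := hone
  obtain ⟨u, hu⟩ := hν μ e
  exact hu (he u)

end Cfsg.Agent.H876.Gs
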